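import Cfsg.Agent.H119.GU.Ker

/-!
# S4537, A4: the Mackey identity (I3) (helper119)
-/

set_option autoImplicit false

open Polynomial Module Cfsg.Agent.H615.GU Cfsg.Agent.H273.GU

namespace Cfsg.Agent.H119.GU

/-! ### evaluation -/

theorem ev_glp (t : ℂ) (m : ℕ) : ev t (glp m) = ∏ j ∈ Finset.range m, (t ^ m - t ^ j) := by
  simp [ev, glp, map_prod]

theorem ev_glp_ne {t : ℂ} (h0 : t ≠ 0) (ht : ∀ i : ℕ, 0 < i → t ^ i ≠ 1) (m : ℕ) : ev t (glp m) ≠ 0 := by
  rw [ev_glp, Finset.prod_ne_zero_iff]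
  intro j hj
  rw [Finset.mem_range] at hj
  have h1 : t ^ m = t ^ j * t ^ (m - j) := by rw [← pow_add]; congr 1; omega
  rw [h1, show t ^ j * t ^ (m - j) - t ^ j = t ^ j * (t ^ (m - j) - 1) by ring]
  exact mul_ne_zero (pow_ne_zero _ h0) (sub_ne_zero.2 (ht _ (by omega)))

theorem ev_ap_ne {t : ℂ} (h0 : t ≠ 0) (ht : ∀ i : ℕ, 0 < i → t ^ i ≠ 1) (l : Col) : ev t (ap l) ≠ 0 := by
  have h1 : ev t (ap l) = ∏ i ∈ l.1.support, (t ^ (l i ^ 2 - (l i - l (i + 1)) ^ 2) *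
      ev t (glp (l i - l (i + 1)))) := by
    simp only [ap, ev, map_prod, map_mul, map_pow, aeval_X]
  rw [h1, Finset.prod_ne_zero_iff]
  intro i _
  exact mul_ne_zero (pow_ne_zero _ h0) (ev_glp_ne h0 ht _)

theorem ev_nat (q : ℕ) (P : ℤ[X]) : ev (q : ℂ) P = ((P.eval (q : ℤ) : ℤ) : ℂ) := by
  have := Polynomial.aeval_algebraMap_apply_eq_algebraMap_eval (A := ℂ) (q : ℤ) P
  simpa using this

theorem cc_eq (t : ℂ) (r : ℕ) : cc t r = t ^ (r ^ 2 - r) / ev t (glp r) := by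
  rw [cc, ev, Polynomial.aeval_def, Polynomial.eval₂_eq_eval_map]
  rfl

theorem nat_ne {q : ℕ} (hq : 1 < q) : ((q : ℂ) ≠ 0) ∧ ∀ i : ℕ, 0 < i → (q : ℂ) ^ i ≠ 1 := by
  refine ⟨by exact_mod_cast (by omega : q ≠ 0), fun i hi h => ?_⟩
  have h1 : q ^ i = 1 := by exact_mod_cast h
  have h2 : 1 < q ^ i := Nat.one_lt_pow hi.ne' hq
  omega

/-- the weights in terms of `cc` -/
theorem wt_eq (F : Type) [Field F] [Finite F] {N d : ℕ} (hd : d ≤ N) :
    ((wt F N d : ℤ) : ℂ) = ev (Nat.card F : ℂ) (glp N) * cc (Nat.card F : ℂ) (N - d) := by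
  obtain ⟨r, rfl⟩ := Nat.exists_eq_add_of_le hd
  have hq := nat_ne (Finite.one_lt_card : 1 < Nat.card F)
  rw [Nat.add_sub_cancel_left, cc_eq, mul_div_assoc', eq_div_iff (ev_glp_ne hq.1 hq.2 r), wt, ev_glp, ev_glp]
  push_cast
  generalize (Nat.card F : ℂ) = t
  rw [Finset.prod_range_add]
  have h1 : ∏ x ∈ Finset.range r, (t ^ (d + r) - t ^ (d + x)) = t ^ (d * r) * ∏ x ∈ Finset.range r, (t ^ r - t ^ x) := by
    rw [Finset.prod_congr rfl fun x _ => show t ^ (d + r) - t ^ (d + x) = t ^ d * (t ^ r - t ^ x) by ring,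
      Finset.prod_mul_distrib, Finset.prod_const, Finset.card_range, ← pow_mul]
  have h2 : (d + r - d) * (d + r - 1) = d * r + (r ^ 2 - r) := by
    rw [Nat.add_sub_cancel_left]
    rcases Nat.eq_zero_or_pos r with h | h
    · subst h; simp
    · have h3 : d + r - 1 = d + (r - 1) := by omega
      have h4 : r ^ 2 - r = r * (r - 1) := by rw [Nat.mul_sub_one, sq]
      rw [h3, h4]
      ring
  rw [h1, h2, pow_add]
  ring

theorem wt_zero (F : Type) [Field F] [Finite F] {N d : ℕ} (hd : N < d) : wt F N d = 0 := by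
  rw [wt, Finset.prod_eq_zero (Finset.mem_range.2 hd) (sub_self _), zero_mul]

/-! ### the identity at prime powers -/

theorem I3_q {F : Type} [Field F] [Finite F] (I : Input F) (n m : Col) (N : ℕ) :
    ∑ l ∈ Col.ofSize N, ev (Nat.card F : ℂ) (Np l n) * ev (Nat.card F : ℂ) (Np l m) / ev (Nat.card F : ℂ) (ap l) =
      (ev (Nat.card F : ℂ) (ap n) * ev (Nat.card F : ℂ) (ap m))⁻¹ *
        ∑ k ∈ (Col.below n).filter (fun k => n.size + m.size ≤ N + k.size),
          ev (Nat.card F : ℂ) (Np n k) * ev (Nat.card F : ℂ) (Np m k) * ev (Nat.card F : ℂ) (ap k) *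
            cc (Nat.card F : ℂ) (N + k.size - n.size - m.size) := by
  have hq := nat_ne (Finite.one_lt_card : 1 < Nat.card F)
  obtain ⟨S₁, h1, hn⟩ := I.exists_colOf n
  obtain ⟨S₂, h2, hm⟩ := I.exists_colOf m
  have hT := card_triples I h1 h2 (Fin N → F)
  rw [hn, hm, Module.finrank_fin_fun] at hT
  have hal : ∀ k : Col, ((al F k : ℤ) : ℂ) = ev (Nat.card F : ℂ) (ap k) := fun k => by
    rw [(main I k.size k rfl).2, ev_nat]
  have hG := ev_glp_ne hq.1 hq.2 N
  have hc : ∀ l ∈ Col.ofSize N, (((Nat.card {T : (Fin N → F) →ₗ[F] (Fin N → F) // IsNilpotent T ∧ colOf T = l} : ℕ) :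
      ℤ) : ℂ) = ev (Nat.card F : ℂ) (glp N) / ev (Nat.card F : ℂ) (ap l) := by
    intro l hl
    rw [Col.mem_ofSize] at hl
    have hex : ∃ T : (Fin N → F) →ₗ[F] (Fin N → F), IsNilpotent T ∧ colOf T = l := by
      subst hl
      exact I.exists_colOf l
    obtain ⟨T, hT, hTl⟩ := hex
    have h3 := card_class I T hT
    rw [hTl] at h3
    rw [eq_div_iff (ev_ap_ne hq.1 hq.2 l), ← hal, ev_glp]
    have h4 : ((Nat.card ((Fin N → F) ≃ₗ[F] (Fin N → F)) : ℤ) : ℂ) = _ := congrArg (Int.cast : ℤ → ℂ) card_gl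
    rw [← h3, Module.finrank_fin_fun] at h4
    push_cast at h4 ⊢
    exact h4
  have hT' := congrArg (Int.cast : ℤ → ℂ) hT
  rw [Int.cast_sum, Int.cast_sum] at hT'
  have hL : ∑ l ∈ Col.ofSize N, (((Nat.card {T : (Fin N → F) →ₗ[F] (Fin N → F) // IsNilpotent T ∧ colOf T = l} : ℤ) *
      (((Np l n).eval (Nat.card F : ℤ) * (al F n : ℤ)) * ((Np l m).eval (Nat.card F : ℤ) * (al F m : ℤ))) : ℤ) : ℂ) =
      ev (Nat.card F : ℂ) (glp N) * (ev (Nat.card F : ℂ) (ap n) * ev (Nat.card F : ℂ) (ap m)) *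
        ∑ l ∈ Col.ofSize N, ev (Nat.card F : ℂ) (Np l n) * ev (Nat.card F : ℂ) (Np l m) /
          ev (Nat.card F : ℂ) (ap l) := by
    rw [Finset.mul_sum]
    refine Finset.sum_congr rfl fun l hl => ?_
    rw [Int.cast_mul, hc l hl, Int.cast_mul, Int.cast_mul, Int.cast_mul, ← ev_nat, ← ev_nat, hal, hal]
    ring
  have hR : ∑ k ∈ Col.below n, (((((Np n k).eval (Nat.card F : ℤ) * (Np m k).eval (Nat.card F : ℤ) *
      (al F k : ℤ)) * wt F N (n.size + m.size - k.size)) : ℤ) : ℂ) =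
      ev (Nat.card F : ℂ) (glp N) * ∑ k ∈ (Col.below n).filter (fun k => n.size + m.size ≤ N + k.size),
          ev (Nat.card F : ℂ) (Np n k) * ev (Nat.card F : ℂ) (Np m k) * ev (Nat.card F : ℂ) (ap k) *
            cc (Nat.card F : ℂ) (N + k.size - n.size - m.size) := by
    rw [Finset.sum_filter, Finset.mul_sum]
    refine Finset.sum_congr rfl fun k hk => ?_
    have hks : k.size ≤ n.size := Col.size_mono (Col.mem_below.1 hk)
    split_ifs with h
    · rw [Int.cast_mul, wt_eq F (by omega : n.size + m.size - k.size ≤ N), Int.cast_mul, Int.cast_mul, ← ev_nat,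
        ← ev_nat, hal]
      have h5 : N - (n.size + m.size - k.size) = N + k.size - n.size - m.size := by omega
      rw [h5]
      ring
    · rw [wt_zero F (by omega : N < n.size + m.size - k.size), mul_zero, Int.cast_zero, mul_zero]
  rw [hL, hR, mul_assoc] at hT'
  have h6 := mul_left_cancel₀ hG hT'
  rw [← h6, ← mul_assoc, inv_mul_cancel₀, one_mul]
  exact mul_ne_zero (ev_ap_ne hq.1 hq.2 n) (ev_ap_ne hq.1 hq.2 m)

/-! ### transfer -/

theorem sum_div_eq {ι : Type*} (s : Finset ι) (a b : ι → ℂ) (hb : ∀ i ∈ s, b i ≠ 0) [DecidableEq ι] :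
    ∑ i ∈ s, a i / b i = (∑ i ∈ s, a i * ∏ j ∈ s.erase i, b j) / ∏ i ∈ s, b i := by
  rw [Finset.sum_div]
  refine Finset.sum_congr rfl fun i hi => ?_
  have h1 : ∏ j ∈ s, b j ≠ 0 := Finset.prod_ne_zero_iff.2 hb
  rw [div_eq_div_iff (hb i hi) h1, mul_assoc, Finset.prod_erase_mul s b hi]

/-- (I3) -/
theorem I3_of (hI : ∀ p : ℕ, ∀ _ : Fact p.Prime, Input (ZMod p)) {t : ℂ} (h0 : t ≠ 0)
    (ht : ∀ i : ℕ, 0 < i → t ^ i ≠ 1) (n m : Col) (N : ℕ) :
    ∑ l ∈ Col.ofSize N, ev t (Np l n) * ev t (Np l m) / ev t (ap l) =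
      (ev t (ap n) * ev t (ap m))⁻¹ *
        ∑ k ∈ (Col.below n).filter (fun k => n.size + m.size ≤ N + k.size),
          ev t (Np n k) * ev t (Np m k) * ev t (ap k) * cc t (N + k.size - n.size - m.size) := by
  classical
  let s := (Col.below n).filter (fun k => n.size + m.size ≤ N + k.size)
  let r : Col → ℕ := fun k => N + k.size - n.size - m.size
  let A : ℤ[X] := ∑ l ∈ Col.ofSize N, Np l n * Np l m * ∏ l' ∈ (Col.ofSize N).erase l, ap l'
  let B : ℤ[X] := ∏ l ∈ Col.ofSize N, ap l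
  let C : ℤ[X] := ∑ k ∈ s, Np n k * Np m k * ap k * X ^ (r k ^ 2 - r k) * ∏ k' ∈ s.erase k, glp (r k')
  let E : ℤ[X] := ∏ k ∈ s, glp (r k)
  have key : ∀ t : ℂ, t ≠ 0 → (∀ i : ℕ, 0 < i → t ^ i ≠ 1) →
      ((∑ l ∈ Col.ofSize N, ev t (Np l n) * ev t (Np l m) / ev t (ap l) =
      (ev t (ap n) * ev t (ap m))⁻¹ *
        ∑ k ∈ s, ev t (Np n k) * ev t (Np m k) * ev t (ap k) * cc t (r k)) ↔
        ev t (A * (ap n * ap m * E)) = ev t (C * B)) := by
    intro t h0 ht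
    have hL : ∑ l ∈ Col.ofSize N, ev t (Np l n) * ev t (Np l m) / ev t (ap l) = ev t A / ev t B := by
      rw [sum_div_eq _ _ _ fun l _ => ev_ap_ne h0 ht l]
      simp only [A, B, ev, map_sum, map_mul, map_prod]
    have hR : ∑ k ∈ s, ev t (Np n k) * ev t (Np m k) * ev t (ap k) * cc t (r k) = ev t C / ev t E := by
      have h1 : ∀ k ∈ s, ev t (Np n k) * ev t (Np m k) * ev t (ap k) * cc t (r k) =
          (ev t (Np n k) * ev t (Np m k) * ev t (ap k) * t ^ (r k ^ 2 - r k)) / ev t (glp (r k)) := fun k _ => by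
        rw [cc_eq, mul_div_assoc]
      rw [Finset.sum_congr rfl h1, sum_div_eq _ _ _ fun k _ => ev_glp_ne h0 ht (r k)]
      simp only [C, E, ev, map_sum, map_mul, map_prod, map_pow, aeval_X]
    have hB : ev t B ≠ 0 := by
      simp only [B, ev, map_prod]
      exact Finset.prod_ne_zero_iff.2 fun l _ => ev_ap_ne h0 ht l
    have hE : ev t E ≠ 0 := by
      simp only [E, ev, map_prod]
      exact Finset.prod_ne_zero_iff.2 fun l _ => ev_glp_ne h0 ht _
    have hn := ev_ap_ne h0 ht n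
    have hm := ev_ap_ne h0 ht m
    rw [hL, hR, ← div_eq_inv_mul, div_div, div_eq_div_iff hB (mul_ne_zero hE (mul_ne_zero hn hm))]
    simp only [ev, map_mul]
    constructor
    · intro h
      linear_combination h
    · intro h
      linear_combination h
  have hpoly : A * (ap n * ap m * E) = C * B := by
    refine Polynomial.eq_of_infinite_eval_eq _ _ ?_
    have hinf : Set.Infinite ((fun p : ℕ => (p : ℤ)) '' {p : ℕ | p.Prime}) :=
      Nat.infinite_setOfPred_prime.image (fun a _ b _ h => by exact_mod_cast h)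
    refine hinf.mono ?_
    rintro _ ⟨p, hp, rfl⟩
    have : Fact p.Prime := ⟨hp⟩
    have h1 := I3_q (hI p this) n m N
    rw [Nat.card_zmod] at h1
    have hq := nat_ne hp.one_lt
    have h2 := (key p hq.1 hq.2).1 h1
    rw [ev_nat, ev_nat] at h2
    exact_mod_cast h2
  exact (key t h0 ht).2 (by rw [hpoly])

end Cfsg.Agent.H119.GU
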