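import Mathlib

/-!
# S4537, A4: nilpotent extensions of a nilpotent endomorphism (helper119)
-/

set_option autoImplicit false

open Module

namespace Cfsg.Agent.H119.GU

section block

variable {F U C : Type*} [Field F] [AddCommGroup U] [Module F U] [AddCommGroup C] [Module F C]

/-- block triangular endomorphisms -/
def blk (T0 : End F U) (B : C →ₗ[F] U) (D : End F C) : End F (U × C) :=
  (T0.comp (LinearMap.fst F U C) + B.comp (LinearMap.snd F U C)).prod (D.comp (LinearMap.snd F U C))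

theorem blk_apply (T0 : End F U) (B : C →ₗ[F] U) (D : End F C) (x : U × C) :
    blk T0 B D x = (T0 x.1 + B x.2, D x.2) := rfl

theorem snd_pow {T : End F (U × C)} {D : End F C} (h : ∀ x, (T x).2 = D x.2) (n : ℕ) (x : U × C) :
    ((T ^ n) x).2 = (D ^ n) x.2 := by
  induction n generalizing x with
  | zero => rfl
  | succ n ih => rw [pow_succ, pow_succ, Module.End.mul_apply, Module.End.mul_apply, ih, h]

theorem inl_pow {T : End F (U × C)} {T0 : End F U} (h : ∀ u, T (u, 0) = (T0 u, 0)) (n : ℕ) (u : U) :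
    (T ^ n) (u, 0) = ((T0 ^ n) u, 0) := by
  induction n generalizing u with
  | zero => rfl
  | succ n ih => rw [pow_succ, pow_succ, Module.End.mul_apply, Module.End.mul_apply, h, ih]

theorem blk_nilp {T0 : End F U} (hT0 : IsNilpotent T0) {T : End F (U × C)} (h1 : ∀ u, T (u, 0) = (T0 u, 0))
    {D : End F C} (h2 : ∀ x, (T x).2 = D x.2) : IsNilpotent T ↔ IsNilpotent D := by
  constructor
  · rintro ⟨n, hn⟩
    refine ⟨n, ?_⟩
    ext c
    have := snd_pow h2 n (0, c)
    rw [hn] at this
    exact this.symm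
  · rintro ⟨n, hn⟩
    obtain ⟨m, hm⟩ := hT0
    refine ⟨m + n, ?_⟩
    refine LinearMap.ext fun x => ?_
    rw [pow_add, Module.End.mul_apply]
    have h3 : (T ^ n) x = (((T ^ n) x).1, 0) := by
      refine Prod.ext rfl ?_
      rw [snd_pow h2 n x, hn]
      rfl
    rw [h3, inl_pow h1, hm]
    rfl

/-- the extensions to a direct sum -/
def extEquiv {T0 : End F U} (hT0 : IsNilpotent T0) :
    {T : End F (U × C) // IsNilpotent T ∧ ∀ u, T (u, 0) = (T0 u, 0)} ≃
      (C →ₗ[F] U) × {D : End F C // IsNilpotent D} where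
  toFun T := ((LinearMap.fst F U C).comp (T.1.comp (LinearMap.inr F U C)),
    ⟨(LinearMap.snd F U C).comp (T.1.comp (LinearMap.inr F U C)), by
      refine (blk_nilp hT0 T.2.2 fun x => ?_).1 T.2.1
      have e : x = (x.1, 0) + (0, x.2) := by simp
      conv_lhs => rw [e, map_add, T.2.2]
      simp⟩)
  invFun x := ⟨blk T0 x.1 x.2.1, (blk_nilp hT0 (fun u => by simp [blk_apply]) (fun _ => rfl)).2 x.2.2,
    fun u => by simp [blk_apply]⟩
  left_inv T := by
    apply Subtype.ext
    refine LinearMap.ext fun x => ?_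
    have e : x = (x.1, 0) + (0, x.2) := by simp
    conv_rhs => rw [e, map_add, T.2.2]
    rw [blk_apply]
    refine Prod.ext rfl ?_
    simp
  right_inv x := by
    refine Prod.ext ?_ ?_
    · refine LinearMap.ext fun c => ?_
      simp [blk_apply]
    · apply Subtype.ext
      refine LinearMap.ext fun c => ?_
      simp [blk_apply]

end block

section ext

variable {F M V : Type*} [Field F] [AddCommGroup M] [Module F M] [AddCommGroup V] [Module F V]

theorem comm_pow {φ : M →ₗ[F] V} {S : End F M} {T : End F V} (h : ∀ x, T (φ x) = φ (S x)) (n : ℕ) (x : M) :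
    (T ^ n) (φ x) = φ ((S ^ n) x) := by
  induction n generalizing x with
  | zero => rfl
  | succ n ih => rw [pow_succ, pow_succ, Module.End.mul_apply, Module.End.mul_apply, h, ih]

theorem conj_pow' {W : Type*} [AddCommGroup W] [Module F W] (e : V ≃ₗ[F] W) (T : End F V) (n : ℕ) :
    (e.conj T) ^ n = e.conj (T ^ n) := by
  induction n with
  | zero => rw [pow_zero, pow_zero]; exact (LinearEquiv.conj_id e).symm
  | succ n ih =>
    rw [pow_succ, pow_succ, ih]
    exact (LinearEquiv.conj_comp e _ _).symm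

theorem nilp_conj {W : Type*} [AddCommGroup W] [Module F W] (e : V ≃ₗ[F] W) (T : End F V) :
    IsNilpotent T ↔ IsNilpotent (e.conj T) := by
  constructor
  · rintro ⟨n, hn⟩
    exact ⟨n, by rw [conj_pow', hn, map_zero]⟩
  · rintro ⟨n, hn⟩
    exact ⟨n, e.conj.injective (by rw [← conj_pow', hn, map_zero])⟩

/-- the induced endomorphism of the range -/
theorem exists_T0 (φ : M →ₗ[F] V) {S : End F M} (hS : IsNilpotent S) (hK : ∀ x, φ x = 0 → φ (S x) = 0) :
    ∃ T0 : End F (LinearMap.range φ), IsNilpotent T0 ∧ ∀ x, (T0 ⟨φ x, ⟨x, rfl⟩⟩ : V) = φ (S x) := by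
  obtain ⟨σ, hσ⟩ := φ.rangeRestrict.exists_rightInverse_of_surjective (LinearMap.range_rangeRestrict φ)
  have h1 : ∀ x, ((φ.rangeRestrict.comp (S.comp σ)) ⟨φ x, ⟨x, rfl⟩⟩ : V) = φ (S x) := by
    intro x
    show φ (S (σ ⟨φ x, ⟨x, rfl⟩⟩)) = φ (S x)
    rw [← sub_eq_zero, ← map_sub, ← map_sub]
    apply hK
    rw [map_sub, sub_eq_zero]
    have := LinearMap.congr_fun hσ ⟨φ x, ⟨x, rfl⟩⟩
    exact congrArg Subtype.val this
  refine ⟨φ.rangeRestrict.comp (S.comp σ), ?_, h1⟩
  obtain ⟨n, hn⟩ := hS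
  refine ⟨n, LinearMap.ext fun y => ?_⟩
  obtain ⟨_, x, rfl⟩ := y
  have h2 := comm_pow (φ := φ.rangeRestrict) (S := S) (T := φ.rangeRestrict.comp (S.comp σ))
    (fun x => Subtype.ext (h1 x)) n x
  rw [hn] at h2
  exact h2.trans (map_zero _)

theorem card_ext (φ : M →ₗ[F] V) {S : End F M} (hS : IsNilpotent S) (hK : ∀ x, φ x = 0 → φ (S x) = 0)
    (C : Submodule F V) (hC : IsCompl (LinearMap.range φ) C) :
    Nat.card {T : End F V // IsNilpotent T ∧ ∀ x, T (φ x) = φ (S x)} =
      Nat.card (C →ₗ[F] LinearMap.range φ) * Nat.card {D : End F C // IsNilpotent D} := by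
  obtain ⟨T0, hT0, hT⟩ := exists_T0 φ hS hK
  rw [← Nat.card_prod, ← Nat.card_congr (extEquiv (C := C) hT0)]
  let e := Submodule.prodEquivOfIsCompl _ C hC
  symm
  refine Nat.card_congr ((LinearEquiv.conj e).toEquiv.subtypeEquiv fun T => ?_)
  refine and_congr ?_ ?_
  · exact nilp_conj e T
  · have he : ∀ u : LinearMap.range φ, e (u, 0) = (u : V) := fun u => by
      simp [e, Submodule.coe_prodEquivOfIsCompl']
    constructor
    · intro h x
      show e (T (e.symm (φ x))) = φ (S x)
      have h1 : e.symm (φ x) = (⟨φ x, ⟨x, rfl⟩⟩, 0) := by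
        rw [LinearEquiv.symm_apply_eq, he]
      rw [h1, h, he, hT]
    · intro h u
      obtain ⟨_, x, rfl⟩ := u
      have h1 : e.symm (φ x) = (⟨φ x, ⟨x, rfl⟩⟩, 0) := by
        rw [LinearEquiv.symm_apply_eq, he]
      have h2 : e (T (e.symm (φ x))) = φ (S x) := h x
      rw [h1] at h2
      apply e.injective
      rw [h2, he, hT]

end ext

end Cfsg.Agent.H119.GU
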