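import Cfsg.Agent.H119.GU.NilCard
import Cfsg.Agent.H273.GU.CardSub

/-!
# S4537, A4: counting injective homomorphisms (helper119)
-/

set_option autoImplicit false

open Polynomial Module Cfsg.Agent.H615.GU Cfsg.Agent.H273.GU

namespace Cfsg.Agent.H119.GU

universe u

variable {F : Type u} [Field F] [Finite F]

/-- injective homomorphisms -/
abbrev InjHom {M V : Type u} [AddCommGroup M] [Module F M] [AddCommGroup V] [Module F V] (S : M →ₗ[F] M)
    (T : V →ₗ[F] V) : Type u :=
  {f : M →ₗ[F] V // Function.Injective f ∧ ∀ x, f (S x) = T (f x)}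

section

variable {M V : Type u} [AddCommGroup M] [Module F M] [Module.Finite F M] [AddCommGroup V] [Module F V]
  [Module.Finite F V]

/-- number of injective homomorphisms with a condition on the image -/
theorem card_inj (I : Input F) (S : M →ₗ[F] M) (T : V →ₗ[F] V) (hS : IsNilpotent S) (hT : IsNilpotent T)
    (P : Submodule F V → Prop) :
    Nat.card {f : M →ₗ[F] V // (Function.Injective f ∧ ∀ x, f (S x) = T (f x)) ∧ P (LinearMap.range f)} =
      Nat.card {U : Sub T // rt T U = colOf S ∧ P U.1} * al F (colOf S) := by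
  classical
  have hfinV : Finite V := Module.finite_of_finite F
  have hfinM : Finite M := Module.finite_of_finite F
  have hfs : Finite (Submodule F V) := Finite.of_injective (fun U : Submodule F V => (U : Set V)) SetLike.coe_injective
  let _ := Fintype.ofFinite {U : Sub T // rt T U = colOf S ∧ P U.1}
  have hfe : ∀ U : {U : Sub T // rt T U = colOf S ∧ P U.1}, Finite (EqIso S (T.restrict U.1.2)) := fun U =>
    Finite.of_injective (fun e : EqIso S (T.restrict U.1.2) => (e.1 : M → U.1.1))
      (fun e e' h => Subtype.ext (LinearEquiv.ext fun x => congrFun h x))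
  have hb : Function.Bijective (fun x : Σ U : {U : Sub T // rt T U = colOf S ∧ P U.1}, EqIso S (T.restrict U.1.2) =>
      (⟨x.1.1.1.subtype.comp (x.2.1 : M →ₗ[F] x.1.1.1), ⟨x.1.1.1.subtype_injective.comp x.2.1.injective, fun m =>
        congrArg Subtype.val (x.2.2 m)⟩, by
          rw [LinearMap.range_comp, LinearEquiv.range, Submodule.map_top, Submodule.range_subtype]
          exact x.1.2.2⟩ :
        {f : M →ₗ[F] V // (Function.Injective f ∧ ∀ x, f (S x) = T (f x)) ∧ P (LinearMap.range f)})) := by
    constructor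
    · rintro ⟨⟨⟨U, hU⟩, h1, h2⟩, e, he⟩ ⟨⟨⟨U', hU'⟩, h1', h2'⟩, e', he'⟩ h
      have h3 : U.subtype.comp (e : M →ₗ[F] U) = U'.subtype.comp (e' : M →ₗ[F] U') := congrArg Subtype.val h
      have h4 : U = U' := by
        have := congrArg LinearMap.range h3
        rwa [LinearMap.range_comp, LinearEquiv.range, Submodule.map_top, Submodule.range_subtype,
          LinearMap.range_comp, LinearEquiv.range, Submodule.map_top, Submodule.range_subtype] at this
      subst h4
      have h5 : e = e' := LinearEquiv.ext fun x => Subtype.ext (LinearMap.congr_fun h3 x)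
      subst h5
      rfl
    · rintro ⟨f, ⟨hf, hf'⟩, hP⟩
      have hU : LinearMap.range f ≤ (LinearMap.range f).comap T := by
        rintro _ ⟨x, rfl⟩
        exact ⟨S x, hf' x⟩
      have he : ∀ x, (LinearEquiv.ofInjective f hf) (S x) = (T.restrict hU) (LinearEquiv.ofInjective f hf x) :=
        fun x => Subtype.ext (hf' x)
      refine ⟨⟨⟨⟨LinearMap.range f, hU⟩, ?_, hP⟩, ⟨LinearEquiv.ofInjective f hf, he⟩⟩, ?_⟩
      · exact (colOf_eq_of_equiv _ he).symm
      · apply Subtype.ext
        rfl
  rw [← Nat.card_eq_of_bijective _ hb, Nat.card_sigma]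
  have h1 : ∀ U : {U : Sub T // rt T U = colOf S ∧ P U.1}, Nat.card (EqIso S (T.restrict U.1.2)) = al F (colOf S) :=
    fun U => card_eqIso I S (T.restrict U.1.2) hS (Module.End.isNilpotent.restrict _ hT) U.2.1
  rw [Finset.sum_congr rfl fun U _ => h1 U, Finset.sum_const, smul_eq_mul, Finset.card_univ,
    ← Nat.card_eq_fintype_card]

theorem card_injHom (I : Input F) (S : M →ₗ[F] M) (T : V →ₗ[F] V) (hS : IsNilpotent S) (hT : IsNilpotent T) :
    Nat.card (InjHom S T) = nuS T (colOf S) * al F (colOf S) := by
  have h := card_inj I S T hS hT (fun _ => True)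
  simp only [and_true] at h
  exact h

omit [Finite F] in
theorem finite_iso_aux [Finite F] : Finite (V ≃ₗ[F] V) := by
  have hfinV : Finite V := Module.finite_of_finite F
  exact Finite.of_injective (fun e : V ≃ₗ[F] V => (e : V → V)) (fun e e' h => LinearEquiv.ext fun x => congrFun h x)

/-- the conjugacy class of a nilpotent endomorphism -/
theorem card_class (I : Input F) (S : V →ₗ[F] V) (hS : IsNilpotent S) :
    Nat.card {T : V →ₗ[F] V // IsNilpotent T ∧ colOf T = colOf S} * al F (colOf S) = Nat.card (V ≃ₗ[F] V) := by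
  classical
  have hfinV : Finite V := Module.finite_of_finite F
  let _ := Fintype.ofFinite {T : V →ₗ[F] V // IsNilpotent T ∧ colOf T = colOf S}
  have hfi := finite_iso_aux (F := F) (V := V)
  have hb : Function.Bijective (fun x : Σ T : {T : V →ₗ[F] V // IsNilpotent T ∧ colOf T = colOf S}, EqIso S T.1 =>
      x.2.1) := by
    constructor
    · rintro ⟨⟨T, h1⟩, e, he⟩ ⟨⟨T', h1'⟩, e', he'⟩ (h : e = e')
      subst h
      have h2 : T = T' := LinearMap.ext fun v => by
        obtain ⟨w, rfl⟩ := e.surjective v
        rw [← he, ← he']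
      subst h2
      rfl
    · intro e
      have he : ∀ v, e (S v) = (e.conj S) (e v) := fun v => by
        rw [LinearEquiv.conj_apply_apply, e.symm_apply_apply]
      exact ⟨⟨⟨e.conj S, (nilp_conj e S).1 hS, (colOf_eq_of_equiv e he).symm⟩, ⟨e, he⟩⟩, rfl⟩
  rw [← Nat.card_eq_of_bijective _ hb, Nat.card_sigma]
  have h1 : ∀ T : {T : V →ₗ[F] V // IsNilpotent T ∧ colOf T = colOf S}, Nat.card (EqIso S T.1) = al F (colOf S) :=
    fun T => card_eqIso I S T.1 hS T.2.1 T.2.2
  rw [Finset.sum_congr rfl fun U _ => h1 U, Finset.sum_const, smul_eq_mul, Finset.card_univ,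
    ← Nat.card_eq_fintype_card]

/-- number of injective linear maps -/
theorem card_injLin :
    (Nat.card {f : M →ₗ[F] V // Function.Injective f} : ℤ) =
      ∏ i ∈ Finset.range (finrank F M), ((Nat.card F : ℤ) ^ finrank F V - (Nat.card F : ℤ) ^ i) := by
  rw [← card_li]
  congr 1
  let b := Module.finBasis F M
  refine Nat.card_congr ((b.constr F).symm.toEquiv.subtypeEquiv fun f => ?_)
  show Function.Injective f ↔ LinearIndependent F ((b.constr F).symm f)
  have h1 : ((b.constr F).symm f : Fin (finrank F M) → V) = f ∘ b := by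
    funext i
    rfl
  rw [h1]
  constructor
  · intro h
    exact b.linearIndependent.map' f (LinearMap.ker_eq_bot.2 h)
  · intro h
    refine LinearMap.ker_eq_bot.1 (LinearMap.ker_eq_bot'.2 fun m hm => ?_)
    rw [← b.sum_repr m, map_sum] at hm
    have h2 := Fintype.linearIndependent_iff.1 h (fun i => b.repr m i) (by
      rw [← hm]
      exact Finset.sum_congr rfl fun i _ => (map_smul f _ _).symm)
    rw [← b.sum_repr m]
    exact Finset.sum_eq_zero fun i _ => by rw [h2 i, zero_smul]

theorem card_gl : (Nat.card (V ≃ₗ[F] V) : ℤ) =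
      ∏ i ∈ Finset.range (finrank F V), ((Nat.card F : ℤ) ^ finrank F V - (Nat.card F : ℤ) ^ i) := by
  rw [← card_injLin]
  congr 1
  exact Nat.card_congr
    { toFun := fun e => ⟨e, e.injective⟩
      invFun := fun f => LinearEquiv.ofInjectiveEndo f.1 f.2
      left_inv := fun e => LinearEquiv.ext fun x => rfl
      right_inv := fun f => Subtype.ext (LinearMap.ext fun x => rfl) }

end

end Cfsg.Agent.H119.GU
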