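import Cfsg.Agent.H119.GU.Inj

/-!
# S4537, A4: counting triples `(T, W₁, W₂)` (helper119)
-/

set_option autoImplicit false

open Polynomial Module Cfsg.Agent.H615.GU Cfsg.Agent.H273.GU

namespace Cfsg.Agent.H119.GU

universe u

variable {F : Type u} [Field F] [Finite F]

/-- number of injections times number of extensions -/
noncomputable def wt (F : Type u) (N d : ℕ) : ℤ :=
  (∏ i ∈ Finset.range d, ((Nat.card F : ℤ) ^ N - (Nat.card F : ℤ) ^ i)) * (Nat.card F : ℤ) ^ ((N - d) * (N - 1))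

section

variable {M V : Type u} [AddCommGroup M] [Module F M] [Module.Finite F M] [AddCommGroup V] [Module F V]
  [Module.Finite F V]

/-- pairs `(T, φ)` by the kernel of `φ` -/
theorem card_pairs (S : M →ₗ[F] M) (hS : IsNilpotent S) (P : Submodule F M → Prop) [Fintype {K : Sub S // P K.1}] :
    (Nat.card {x : (V →ₗ[F] V) × (M →ₗ[F] V) // IsNilpotent x.1 ∧ (∀ m, x.1 (x.2 m) = x.2 (S m)) ∧
      P (LinearMap.ker x.2)} : ℤ) = ∑ K : {K : Sub S // P K.1}, wt F (finrank F V) (finrank F (M ⧸ K.1.1)) := by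
  classical
  have hfinV : Finite V := Module.finite_of_finite F
  have hfinM : Finite M := Module.finite_of_finite F
  have hfK : ∀ K : {K : Sub S // P K.1}, Finite {f : (M ⧸ K.1.1) →ₗ[F] V // Function.Injective f} := fun K => by
    have : Finite ((M ⧸ K.1.1) →ₗ[F] V) := Module.finite_of_finite F
    infer_instance
  have hfKT : ∀ (K : {K : Sub S // P K.1}) (f : {f : (M ⧸ K.1.1) →ₗ[F] V // Function.Injective f}),
      Finite {T : V →ₗ[F] V // IsNilpotent T ∧ ∀ m, T ((f.1.comp K.1.1.mkQ) m) = (f.1.comp K.1.1.mkQ) (S m)} :=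
    fun K f => by
      have : Finite (V →ₗ[F] V) := Module.finite_of_finite F
      infer_instance
  have hb : Function.Bijective (fun x : Σ K : {K : Sub S // P K.1},
      Σ f : {f : (M ⧸ K.1.1) →ₗ[F] V // Function.Injective f},
      {T : V →ₗ[F] V // IsNilpotent T ∧ ∀ m, T ((f.1.comp K.1.1.mkQ) m) = (f.1.comp K.1.1.mkQ) (S m)} =>
      (⟨(x.2.2.1, x.2.1.1.comp x.1.1.1.mkQ), x.2.2.2.1, x.2.2.2.2, by
        have : LinearMap.ker (x.2.1.1.comp x.1.1.1.mkQ) = x.1.1.1 := by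
          rw [LinearMap.ker_comp, LinearMap.ker_eq_bot.2 x.2.1.2, ← LinearMap.ker, Submodule.ker_mkQ]
        show P (LinearMap.ker (x.2.1.1.comp x.1.1.1.mkQ))
        rw [this]
        exact x.1.2⟩ : {x : (V →ₗ[F] V) × (M →ₗ[F] V) // IsNilpotent x.1 ∧ (∀ m, x.1 (x.2 m) = x.2 (S m)) ∧
      P (LinearMap.ker x.2)})) := by
    constructor
    · rintro ⟨⟨⟨K, hK⟩, hP⟩, ⟨f, hf⟩, T, hT⟩ ⟨⟨⟨K', hK'⟩, hP'⟩, ⟨f', hf'⟩, T', hT'⟩ h
      have h0 : (T, f.comp K.mkQ) = (T', f'.comp K'.mkQ) := congrArg Subtype.val h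
      have h1 : T = T' := congrArg Prod.fst h0
      have h2 : f.comp K.mkQ = f'.comp K'.mkQ := congrArg Prod.snd h0
      have h3 : K = K' := by
        have := congrArg LinearMap.ker h2
        rwa [LinearMap.ker_comp, LinearMap.ker_eq_bot.2 hf, ← LinearMap.ker, Submodule.ker_mkQ,
          LinearMap.ker_comp, LinearMap.ker_eq_bot.2 hf', ← LinearMap.ker, Submodule.ker_mkQ] at this
      subst h3
      have h4 : f = f' := Submodule.linearMap_qext _ h2
      subst h4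
      subst h1
      rfl
    · rintro ⟨⟨T, φ⟩, hT, hc, hP⟩
      have hK : LinearMap.ker φ ≤ (LinearMap.ker φ).comap S := fun x hx => by
        rw [Submodule.mem_comap, LinearMap.mem_ker, ← hc x]
        show T (φ x) = 0
        rw [LinearMap.mem_ker.1 hx, map_zero]
      refine ⟨⟨⟨⟨LinearMap.ker φ, hK⟩, hP⟩, ⟨(LinearMap.ker φ).liftQ φ le_rfl, ?_⟩, ⟨T, hT, hc⟩⟩, ?_⟩
      · exact LinearMap.ker_eq_bot.1 (Submodule.ker_liftQ_eq_bot _ _ _ le_rfl)
      · apply Subtype.ext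
        refine Prod.ext rfl ?_
        exact LinearMap.ext fun x => rfl
  rw [← Nat.card_eq_of_bijective _ hb, Nat.card_sigma, Nat.cast_sum]
  refine Finset.sum_congr rfl fun K _ => ?_
  let _ := Fintype.ofFinite {f : (M ⧸ K.1.1) →ₗ[F] V // Function.Injective f}
  rw [Nat.card_sigma]
  have h1 : ∀ f : {f : (M ⧸ K.1.1) →ₗ[F] V // Function.Injective f},
      Nat.card {T : V →ₗ[F] V // IsNilpotent T ∧ ∀ m, T ((f.1.comp K.1.1.mkQ) m) = (f.1.comp K.1.1.mkQ) (S m)} =
        Nat.card F ^ ((finrank F V - finrank F (M ⧸ K.1.1)) * (finrank F V - 1)) := by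
    intro f
    rw [card_ext_num (f.1.comp K.1.1.mkQ) (fun C _ => card_nil _ C rfl) hS (fun x hx => ?_)]
    · rw [LinearMap.range_comp, Submodule.range_mkQ, Submodule.map_top, LinearMap.finrank_range_of_inj f.2]
    · have h2 : K.1.1.mkQ x = 0 := f.2 (hx.trans (map_zero _).symm)
      rw [Submodule.mkQ_apply, Submodule.Quotient.mk_eq_zero] at h2
      have h3 : K.1.1.mkQ (S x) = 0 := by
        rw [Submodule.mkQ_apply, Submodule.Quotient.mk_eq_zero]
        exact K.1.2 h2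
      rw [LinearMap.comp_apply, h3, map_zero]
  rw [Finset.sum_congr rfl fun f _ => h1 f, Finset.sum_const, smul_eq_mul, Finset.card_univ,
    ← Nat.card_eq_fintype_card]
  push_cast
  rw [card_injLin, wt]

end

section prod

variable {M₁ M₂ : Type u} [AddCommGroup M₁] [Module F M₁] [Module.Finite F M₁] [AddCommGroup M₂] [Module F M₂]
  [Module.Finite F M₂]

/-- `K` meets both factors trivially -/
def Good (K : Submodule F (M₁ × M₂)) : Prop :=
  (∀ x ∈ K, x.1 = 0 → x = 0) ∧ ∀ x ∈ K, x.2 = 0 → x = 0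

omit [Finite F] [Module.Finite F M₁] [Module.Finite F M₂] in
theorem prodMap_nilp {S₁ : M₁ →ₗ[F] M₁} {S₂ : M₂ →ₗ[F] M₂} (h1 : IsNilpotent S₁) (h2 : IsNilpotent S₂) :
    IsNilpotent (S₁.prodMap S₂) := by
  obtain ⟨n, hn⟩ := h1
  obtain ⟨m, hm⟩ := h2
  have h3 : ∀ (k : ℕ) (x : M₁ × M₂), ((S₁.prodMap S₂) ^ k) x = ((S₁ ^ k) x.1, (S₂ ^ k) x.2) := by
    intro k
    induction k with
    | zero => intro x; rfl
    | succ k ih =>
      intro x
      rw [pow_succ', Module.End.mul_apply, ih, pow_succ', pow_succ', Module.End.mul_apply, Module.End.mul_apply]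
      rfl
  refine ⟨n + m, LinearMap.ext fun x => ?_⟩
  rw [h3, pow_eq_zero_of_le (Nat.le_add_right n m) hn, pow_eq_zero_of_le (Nat.le_add_left m n) hm]
  rfl

theorem card_good (I : Input F) {S₁ : M₁ →ₗ[F] M₁} {S₂ : M₂ →ₗ[F] M₂} (h1 : IsNilpotent S₁) (h2 : IsNilpotent S₂)
    (k : Col) :
    Nat.card {K : Sub (S₁.prodMap S₂) // rt (S₁.prodMap S₂) K = k ∧ Good K.1} = nuS S₁ k * nuS S₂ k * al F k := by
  obtain ⟨R, hR, hk⟩ := I.exists_colOf k
  have h3 := card_inj I R (S₁.prodMap S₂) hR (prodMap_nilp h1 h2) Good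
  have h4 : Nat.card {f : (Fin k.size → F) →ₗ[F] (M₁ × M₂) // (Function.Injective f ∧
      ∀ x, f (R x) = (S₁.prodMap S₂) (f x)) ∧ Good (LinearMap.range f)} =
      Nat.card (InjHom R S₁) * Nat.card (InjHom R S₂) := by
    rw [← Nat.card_prod]
    refine Nat.card_congr
      { toFun := fun f => (⟨(LinearMap.fst F M₁ M₂).comp f.1, ?_, fun x => congrArg Prod.fst (f.2.1.2 x)⟩,
          ⟨(LinearMap.snd F M₁ M₂).comp f.1, ?_, fun x => congrArg Prod.snd (f.2.1.2 x)⟩)
        invFun := fun x => ⟨x.1.1.prod x.2.1, ⟨fun a b h => x.1.2.1 (congrArg Prod.fst h), fun y =>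
          Prod.ext (x.1.2.2 y) (x.2.2.2 y)⟩, ?_, ?_⟩
        left_inv := fun f => rfl
        right_inv := fun x => rfl }
    · refine LinearMap.ker_eq_bot.1 (LinearMap.ker_eq_bot'.2 fun m hm => ?_)
      exact f.2.1.1 ((f.2.2.1 _ ⟨m, rfl⟩ hm).trans (map_zero _).symm)
    · refine LinearMap.ker_eq_bot.1 (LinearMap.ker_eq_bot'.2 fun m hm => ?_)
      exact f.2.1.1 ((f.2.2.2 _ ⟨m, rfl⟩ hm).trans (map_zero _).symm)
    · rintro _ ⟨y, rfl⟩ hy
      have : y = 0 := x.1.2.1 (hy.trans (map_zero _).symm)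
      rw [this, map_zero]
    · rintro _ ⟨y, rfl⟩ hy
      have : y = 0 := x.2.2.1 (hy.trans (map_zero _).symm)
      rw [this, map_zero]
  rw [h4, card_injHom I R S₁ hR h1, card_injHom I R S₂ hR h2, hk] at h3
  have h5 := al_pos I k
  apply Nat.eq_of_mul_eq_mul_right h5
  rw [← h3]
  ring

/-- summation over a finite type by the value of a function -/
theorem sum_by {α : Type*} [Fintype α] (c : α → Col) (s : Finset Col) (hs : ∀ a, c a ∈ s) (G : Col → ℤ) :
    ∑ a, G (c a) = ∑ k ∈ s, (Nat.card {a : α // c a = k} : ℤ) * G k := by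
  classical
  rw [← Finset.sum_fiberwise_of_maps_to (s := Finset.univ) (t := s) (g := c) (fun a _ => hs a)]
  refine Finset.sum_congr rfl fun k _ => ?_
  rw [Finset.sum_congr rfl fun a ha => congrArg G (Finset.mem_filter.1 ha).2, Finset.sum_const, nsmul_eq_mul,
    Nat.card_eq_fintype_card, Fintype.card_subtype]

theorem card_triples (I : Input F) {S₁ : M₁ →ₗ[F] M₁} {S₂ : M₂ →ₗ[F] M₂} (h1 : IsNilpotent S₁)
    (h2 : IsNilpotent S₂) (V : Type u) [AddCommGroup V] [Module F V] [Module.Finite F V] :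
    ∑ l ∈ Col.ofSize (finrank F V), (Nat.card {T : V →ₗ[F] V // IsNilpotent T ∧ colOf T = l} : ℤ) *
      (((Np l (colOf S₁)).eval (Nat.card F : ℤ) * (al F (colOf S₁) : ℤ)) *
        ((Np l (colOf S₂)).eval (Nat.card F : ℤ) * (al F (colOf S₂) : ℤ))) =
    ∑ k ∈ Col.below (colOf S₁), ((Np (colOf S₁) k).eval (Nat.card F : ℤ) * (Np (colOf S₂) k).eval (Nat.card F : ℤ) *
      (al F k : ℤ)) * wt F (finrank F V) ((colOf S₁).size + (colOf S₂).size - k.size) := by
  classical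
  have hfinV : Finite V := Module.finite_of_finite F
  have hfin1 : Finite M₁ := Module.finite_of_finite F
  have hfin2 : Finite M₂ := Module.finite_of_finite F
  have hS := prodMap_nilp h1 h2
  have hfs : Finite (Submodule F (M₁ × M₂)) :=
    Finite.of_injective (fun U : Submodule F (M₁ × M₂) => (U : Set (M₁ × M₂))) SetLike.coe_injective
  let _ := Fintype.ofFinite {K : Sub (S₁.prodMap S₂) // Good K.1}
  let _ := Fintype.ofFinite {T : V →ₗ[F] V // IsNilpotent T}
  have hnu : ∀ {W : Type u} [AddCommGroup W] [Module F W] [Module.Finite F W] (T : W →ₗ[F] W), IsNilpotent T →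
      ∀ k, (nuS T k : ℤ) = (Np (colOf T) k).eval (Nat.card F : ℤ) := fun T hT k => ((main I k.size k rfl).1 T hT).1
  have hfi : ∀ {W : Type u} [AddCommGroup W] [Module F W] [Module.Finite F W] (S : W →ₗ[F] W)
      (T : V →ₗ[F] V), Finite (InjHom S T) := fun {W} _ _ _ S T => by
    have : Finite (W →ₗ[F] V) := Module.finite_of_finite F
    infer_instance
  have hA := card_pairs (V := V) (S₁.prodMap S₂) hS Good
  -- (b)
  have hB : ∑ K : {K : Sub (S₁.prodMap S₂) // Good K.1}, wt F (finrank F V) (finrank F ((M₁ × M₂) ⧸ K.1.1)) =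
      ∑ k ∈ Col.below (colOf S₁), ((Np (colOf S₁) k).eval (Nat.card F : ℤ) *
        (Np (colOf S₂) k).eval (Nat.card F : ℤ) * (al F k : ℤ)) *
          wt F (finrank F V) ((colOf S₁).size + (colOf S₂).size - k.size) := by
    have hK : ∀ K : {K : Sub (S₁.prodMap S₂) // Good K.1}, wt F (finrank F V) (finrank F ((M₁ × M₂) ⧸ K.1.1)) =
        wt F (finrank F V) ((colOf S₁).size + (colOf S₂).size - (rt (S₁.prodMap S₂) K.1).size) := by
      intro K
      congr 1
      have h3 := Submodule.finrank_quotient_add_finrank K.1.1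
      rw [Module.finrank_prod] at h3
      rw [size_rt _ hS, size_colOf _ h1, size_colOf _ h2]
      omega
    rw [Finset.sum_congr rfl fun K _ => hK K, sum_by (fun K : {K : Sub (S₁.prodMap S₂) // Good K.1} =>
      rt (S₁.prodMap S₂) K.1) (Col.below (colOf S₁)) (fun K => ?_)
      (fun k => wt F (finrank F V) ((colOf S₁).size + (colOf S₂).size - k.size))]
    · refine Finset.sum_congr rfl fun k _ => ?_
      congr 1
      rw [← hnu S₁ h1, ← hnu S₂ h2]
      have h4 := card_good I h1 h2 k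
      have h5 : Nat.card {K : {K : Sub (S₁.prodMap S₂) // Good K.1} // rt (S₁.prodMap S₂) K.1 = k} =
          Nat.card {K : Sub (S₁.prodMap S₂) // rt (S₁.prodMap S₂) K = k ∧ Good K.1} :=
        Nat.card_congr ⟨fun K => ⟨K.1.1, K.2, K.1.2⟩, fun K => ⟨⟨K.1, K.2.2⟩, K.2.1⟩, fun _ => rfl, fun _ => rfl⟩
      rw [h5, h4]
      push_cast
      ring
    · rw [Col.mem_below]
      refine colOf_le_of_injective (f := (LinearMap.fst F M₁ M₂).comp K.1.1.subtype) ?_ fun x => rfl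
      refine LinearMap.ker_eq_bot.1 (LinearMap.ker_eq_bot'.2 fun m hm => ?_)
      exact Subtype.ext (K.2.1 _ m.2 hm)
  -- (a)
  have hC : Nat.card {x : (V →ₗ[F] V) × ((M₁ × M₂) →ₗ[F] V) // IsNilpotent x.1 ∧
      (∀ m, x.1 (x.2 m) = x.2 ((S₁.prodMap S₂) m)) ∧ Good (LinearMap.ker x.2)} =
      Nat.card (Σ T : {T : V →ₗ[F] V // IsNilpotent T}, InjHom S₁ T.1 × InjHom S₂ T.1) := by
    refine Nat.card_congr
      { toFun := fun x => ⟨⟨x.1.1, x.2.1⟩, (⟨x.1.2.comp (LinearMap.inl F M₁ M₂), ?_, ?_⟩,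
          ⟨x.1.2.comp (LinearMap.inr F M₁ M₂), ?_, ?_⟩)⟩
        invFun := fun x => ⟨(x.1.1, x.2.1.1.coprod x.2.2.1), x.1.2, ?_, ?_, ?_⟩
        left_inv := fun x => ?_
        right_inv := fun x => ?_ }
    · refine LinearMap.ker_eq_bot.1 (LinearMap.ker_eq_bot'.2 fun m hm => ?_)
      exact congrArg Prod.fst (x.2.2.2.2 (m, 0) hm rfl)
    · intro m
      have := x.2.2.1 (m, 0)
      show x.1.2 (S₁ m, 0) = x.1.1 (x.1.2 (m, 0))
      rw [this]
      show x.1.2 (S₁ m, 0) = x.1.2 (S₁ m, S₂ 0)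
      rw [map_zero]
    · refine LinearMap.ker_eq_bot.1 (LinearMap.ker_eq_bot'.2 fun m hm => ?_)
      exact congrArg Prod.snd (x.2.2.2.1 (0, m) hm rfl)
    · intro m
      have := x.2.2.1 (0, m)
      show x.1.2 (0, S₂ m) = x.1.1 (x.1.2 (0, m))
      rw [this]
      show x.1.2 (0, S₂ m) = x.1.2 (S₁ 0, S₂ m)
      rw [map_zero]
    · intro m
      show x.1.1 (x.2.1.1 m.1 + x.2.2.1 m.2) = x.2.1.1 (S₁ m.1) + x.2.2.1 (S₂ m.2)
      rw [map_add, x.2.1.2.2, x.2.2.2.2]
    · intro y hy hy1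
      have hy' : x.2.1.1 y.1 + x.2.2.1 y.2 = 0 := hy
      rw [hy1, map_zero, zero_add] at hy'
      exact Prod.ext hy1 (x.2.2.2.1 (hy'.trans (map_zero _).symm))
    · intro y hy hy1
      have hy' : x.2.1.1 y.1 + x.2.2.1 y.2 = 0 := hy
      rw [hy1, map_zero, add_zero] at hy'
      exact Prod.ext (x.2.1.2.1 (hy'.trans (map_zero _).symm)) hy1
    · apply Subtype.ext
      refine Prod.ext rfl ?_
      exact LinearMap.coprod_comp_inl_inr _
    · refine Sigma.ext rfl (heq_of_eq ?_)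
      refine Prod.ext (Subtype.ext ?_) (Subtype.ext ?_)
      · exact LinearMap.coprod_inl _ _
      · exact LinearMap.coprod_inr _ _
  have hD : (Nat.card (Σ T : {T : V →ₗ[F] V // IsNilpotent T}, InjHom S₁ T.1 × InjHom S₂ T.1) : ℤ) =
      ∑ l ∈ Col.ofSize (finrank F V), (Nat.card {T : V →ₗ[F] V // IsNilpotent T ∧ colOf T = l} : ℤ) *
      (((Np l (colOf S₁)).eval (Nat.card F : ℤ) * (al F (colOf S₁) : ℤ)) *
        ((Np l (colOf S₂)).eval (Nat.card F : ℤ) * (al F (colOf S₂) : ℤ))) := by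
    rw [Nat.card_sigma, Nat.cast_sum]
    have h3 : ∀ T : {T : V →ₗ[F] V // IsNilpotent T}, (Nat.card (InjHom S₁ T.1 × InjHom S₂ T.1) : ℤ) =
        (((Np (colOf T.1) (colOf S₁)).eval (Nat.card F : ℤ) * (al F (colOf S₁) : ℤ)) *
        ((Np (colOf T.1) (colOf S₂)).eval (Nat.card F : ℤ) * (al F (colOf S₂) : ℤ))) := by
      intro T
      rw [Nat.card_prod, card_injHom I S₁ T.1 h1 T.2, card_injHom I S₂ T.1 h2 T.2, ← hnu T.1 T.2, ← hnu T.1 T.2]
      push_cast
      ring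
    rw [Finset.sum_congr rfl fun T _ => h3 T, sum_by (fun T : {T : V →ₗ[F] V // IsNilpotent T} => colOf T.1)
      (Col.ofSize (finrank F V)) (fun T => by rw [Col.mem_ofSize, size_colOf _ T.2])
      (fun l => (((Np l (colOf S₁)).eval (Nat.card F : ℤ) * (al F (colOf S₁) : ℤ)) *
        ((Np l (colOf S₂)).eval (Nat.card F : ℤ) * (al F (colOf S₂) : ℤ))))]
    refine Finset.sum_congr rfl fun l _ => ?_
    congr 2
    exact Nat.card_congr ⟨fun K => ⟨K.1.1, K.1.2, K.2⟩, fun K => ⟨⟨K.1, K.2.1⟩, K.2.2⟩, fun _ => rfl, fun _ => rfl⟩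
  rw [← hD, ← hC, hA, hB]

end prod

end Cfsg.Agent.H119.GU
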