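import Cfsg.Agent.H119.GU.Ext

/-!
# S4537, A4: the number of nilpotent endomorphisms is `q ^ (N (N - 1))` (helper119)

Count the pairs `(T, v)` by the cyclic subspace generated by `v`.
-/

set_option autoImplicit false

open Module

namespace Cfsg.Agent.H119.GU

/-! ### arithmetic -/

theorem tel (q : ℤ) (N : ℕ) : ∀ m ≤ N,
    q ^ m * ∑ j ∈ Finset.range m, (∏ i ∈ Finset.range (j + 1), (q ^ N - q ^ i)) * q ^ ((N - (j + 1)) * (N - 1)) =
      q ^ m * ((q ^ N - 1) * q ^ (N * (N - 1))) -
        (∏ i ∈ Finset.range (m + 1), (q ^ N - q ^ i)) * q ^ ((N - m) * (N - 1)) := by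
  intro m
  induction m with
  | zero =>
    intro _
    simp
  | succ m ih =>
    intro hm
    have h1 := ih (by omega)
    rw [Finset.sum_range_succ, mul_add, pow_succ', mul_assoc q, h1, Finset.prod_range_succ _ (m + 1)]
    have h2 : (N - m) * (N - 1) = (N - 1) + (N - (m + 1)) * (N - 1) := by
      have : N - m = 1 + (N - (m + 1)) := by omega
      rw [this, add_mul, one_mul]
    have h3 : q ^ N = q * q ^ (N - 1) := by rw [← pow_succ']; congr 1; omega
    rw [h2, pow_add]
    generalize (∏ i ∈ Finset.range (m + 1), (q ^ N - q ^ i)) = P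
    generalize q ^ ((N - (m + 1)) * (N - 1)) = R
    have h4 : q ^ (m + 1) = q * q ^ m := pow_succ' q m
    rw [h4]
    linear_combination (P * R) * h3

theorem tel_top {q : ℤ} (hq : q ≠ 0) (N : ℕ) :
    ∑ j ∈ Finset.range N, (∏ i ∈ Finset.range (j + 1), (q ^ N - q ^ i)) * q ^ ((N - (j + 1)) * (N - 1)) =
      (q ^ N - 1) * q ^ (N * (N - 1)) := by
  have h := tel q N N le_rfl
  have h0 : ∏ i ∈ Finset.range (N + 1), (q ^ N - q ^ i) = 0 :=
    Finset.prod_eq_zero (Finset.mem_range.2 (Nat.lt_succ_self N)) (sub_self _)
  rw [h0, zero_mul, sub_zero] at h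
  exact mul_left_cancel₀ (pow_ne_zero N hq) h

/-! ### the shift -/

section shift

variable (F : Type*) [Field F] (j : ℕ)

/-- the shift `e_i ↦ e_(i+1)` -/
def shift : End F (Fin j → F) where
  toFun x i := if h : 0 < (i : ℕ) then x ⟨i - 1, by omega⟩ else 0
  map_add' x y := by
    funext i
    by_cases h : 0 < (i : ℕ)
    · simp [h]
    · simp [h]
  map_smul' c x := by
    funext i
    by_cases h : 0 < (i : ℕ)
    · simp [h]
    · simp [h]

theorem shift_apply (x : Fin j → F) (i : Fin j) :
    shift F j x i = if h : 0 < (i : ℕ) then x ⟨i - 1, by omega⟩ else 0 := rfl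

theorem shift_pow (n : ℕ) (x : Fin j → F) (i : Fin j) (h : (i : ℕ) < n) : ((shift F j) ^ n) x i = 0 := by
  induction n generalizing i with
  | zero => omega
  | succ n ih =>
    rw [pow_succ', Module.End.mul_apply, shift_apply]
    split_ifs with h1
    · exact ih _ (by simp only; omega)
    · rfl

theorem shift_nilp : IsNilpotent (shift F j) :=
  ⟨j, LinearMap.ext fun x => funext fun i => shift_pow F j j x i i.2⟩

end shift

section chain

variable {F V : Type*} [Field F] [AddCommGroup V] [Module F V]

/-- `w` is a `T`-chain ending in `0` -/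
def Chain {j : ℕ} (T : End F V) (w : Fin j → V) : Prop :=
  ∀ i : Fin j, T (w i) = if h : (i : ℕ) + 1 < j then w ⟨i + 1, h⟩ else 0

theorem chain_pow {j : ℕ} {T : End F V} {w : Fin j → V} (h : Chain T w) (h0 : 0 < j) (i : Fin j) :
    w i = (T ^ (i : ℕ)) (w ⟨0, h0⟩) := by
  obtain ⟨i, hi⟩ := i
  induction i with
  | zero => rfl
  | succ i ih =>
    have h1 := h ⟨i, by omega⟩
    rw [dif_pos (show i + 1 < j from hi)] at h1
    rw [← h1, ih (by omega)]
    show _ = (T ^ (i + 1)) (w ⟨0, h0⟩)
    rw [pow_succ', Module.End.mul_apply]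

theorem chain_pow_top {j : ℕ} {T : End F V} {w : Fin j → V} (h : Chain T w) (h0 : 0 < j) :
    (T ^ j) (w ⟨0, h0⟩) = 0 := by
  have h1 := h ⟨j - 1, by omega⟩
  rw [dif_neg (by simp only; omega), chain_pow h h0] at h1
  have h3 : (T ^ ((j - 1) + 1)) (w ⟨0, h0⟩) = 0 := by
    rw [pow_succ', Module.End.mul_apply]
    exact h1
  rwa [Nat.sub_add_cancel h0] at h3

theorem chain_iff {j : ℕ} {T : End F V} {w : Fin j → V} :
    Chain T w ↔ ∀ x, T (Fintype.linearCombination F w x) = Fintype.linearCombination F w (shift F j x) := by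
  classical
  have h1 : ∀ k : Fin j, shift F j (Pi.single k 1) = if h : (k : ℕ) + 1 < j then Pi.single ⟨k + 1, h⟩ 1 else 0 := by
    intro k
    funext i
    rw [shift_apply]
    by_cases hi : 0 < (i : ℕ)
    · rw [dif_pos hi]
      by_cases hk : (k : ℕ) + 1 < j
      · rw [dif_pos hk, Pi.single_apply, Pi.single_apply]
        congr 1
        rw [Fin.ext_iff, Fin.ext_iff, eq_iff_iff]
        show (i : ℕ) - 1 = k ↔ (i : ℕ) = k + 1
        omega
      · rw [dif_neg hk, Pi.single_apply, if_neg]
        · rfl
        · rw [Fin.ext_iff]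
          show ¬ (i : ℕ) - 1 = k
          omega
    · rw [dif_neg hi]
      by_cases hk : (k : ℕ) + 1 < j
      · rw [dif_pos hk, Pi.single_apply, if_neg]
        rw [Fin.ext_iff]
        show ¬ (i : ℕ) = k + 1
        omega
      · rw [dif_neg hk]
        rfl
  have h2 : ∀ k : Fin j, Fintype.linearCombination F w (shift F j (Pi.single k 1)) =
      if h : (k : ℕ) + 1 < j then w ⟨k + 1, h⟩ else 0 := by
    intro k
    rw [h1]
    by_cases hk : (k : ℕ) + 1 < j
    · rw [dif_pos hk, dif_pos hk, Fintype.linearCombination_apply_single, one_smul]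
    · rw [dif_neg hk, dif_neg hk, map_zero]
  have h3 : ∀ k : Fin j, Fintype.linearCombination F w (Pi.single k 1) = w k := fun k => by
    rw [Fintype.linearCombination_apply_single, one_smul]
  constructor
  · intro h x
    have h4 : T.comp (Fintype.linearCombination F w) = (Fintype.linearCombination F w).comp (shift F j) := by
      refine (Pi.basisFun F (Fin j)).ext fun k => ?_
      rw [Pi.basisFun_apply, LinearMap.comp_apply, LinearMap.comp_apply, h3, h2]
      exact h k
    exact LinearMap.congr_fun h4 x
  · intro h k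
    rw [← h2, ← h, h3]

/-- `v, T v, …, T^(j-1) v` are independent if `T^(j-1) v ≠ 0`, `T^j v = 0` -/
theorem li_of_pow {T : End F V} {v : V} {j : ℕ} (h1 : ∀ i < j, (T ^ i) v ≠ 0) (h2 : (T ^ j) v = 0) :
    LinearIndependent F (fun i : Fin j => (T ^ (i : ℕ)) v) := by
  rw [Fintype.linearIndependent_iff]
  intro g hg
  by_contra hne
  push Not at hne
  classical
  obtain ⟨i0, hi0⟩ := hne
  let s : Finset (Fin j) := Finset.univ.filter fun i => g i ≠ 0
  have hs : s.Nonempty := ⟨i0, by simp [s, hi0]⟩
  have hm := Finset.min'_mem s hs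
  set m := s.min' hs with hmdef
  have hgm : g m ≠ 0 := (Finset.mem_filter.1 hm).2
  have hlt : ∀ i < m, g i = 0 := fun i hi => by
    by_contra h
    have := Finset.min'_le s i (Finset.mem_filter.2 ⟨Finset.mem_univ _, h⟩)
    exact absurd hi (not_lt.2 this)
  have h3 := congrArg (T ^ (j - 1 - (m : ℕ))) hg
  rw [map_sum, map_zero, Finset.sum_eq_single m] at h3
  · rw [map_smul, ← Module.End.mul_apply, ← pow_add, smul_eq_zero] at h3
    rcases h3 with h3 | h3
    · exact hgm h3
    · exact h1 _ (by omega) h3
  · intro i _ hi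
    rcases lt_or_gt_of_ne hi with h | h
    · rw [hlt i h, zero_smul, map_zero]
    · rw [map_smul, ← Module.End.mul_apply, ← pow_add]
      have h4 : j - 1 - (m : ℕ) + (i : ℕ) = (j - 1 - (m : ℕ) + (i : ℕ) - j) + j := by
        have : (m : ℕ) < i := h
        omega
      rw [h4, pow_add, Module.End.mul_apply, h2, map_zero, smul_zero]
  · intro h
    exact absurd (Finset.mem_univ m) h

/-- the first vector of a chain -/
def headV {j : ℕ} (w : Fin j → V) : V := if h : 0 < j then w ⟨0, h⟩ else 0

theorem headV_pow {j : ℕ} {T : End F V} {w : Fin j → V} (h : Chain T w) (i : Fin j) :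
    w i = (T ^ (i : ℕ)) (headV w) := by
  have h0 : 0 < j := i.pos
  rw [headV, dif_pos h0]
  exact chain_pow h h0 i

theorem headV_top {j : ℕ} {T : End F V} {w : Fin j → V} (h : Chain T w) : (T ^ j) (headV w) = 0 := by
  by_cases h0 : 0 < j
  · rw [headV, dif_pos h0]
    exact chain_pow_top h h0
  · rw [headV, dif_neg h0, map_zero]

theorem headV_ne {j : ℕ} {T : End F V} {w : Fin j → V} (h : Chain T w) (hw : LinearIndependent F w) (n : ℕ)
    (hn : n < j) : (T ^ n) (headV w) ≠ 0 := by
  rw [← headV_pow h ⟨n, hn⟩]
  exact hw.ne_zero _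

theorem find_unique {T : End F V} {v : V} {j j' : ℕ} (h1 : (T ^ j) v = 0) (h2 : ∀ n < j, (T ^ n) v ≠ 0)
    (h1' : (T ^ j') v = 0) (h2' : ∀ n < j', (T ^ n) v ≠ 0) : j = j' := by
  rcases lt_trichotomy j j' with h | h | h
  · exact absurd h1 (h2' _ h)
  · exact h
  · exact absurd h1' (h2 _ h)

/-- the vectors correspond to the chains -/
theorem headV_bijective [Module.Finite F V] {T : End F V} (hT : IsNilpotent T) :
    Function.Bijective (fun x : Σ j : Fin (finrank F V + 1),
      {w : Fin j → V // LinearIndependent F w ∧ Chain T w} => headV x.2.1) := by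
  constructor
  · rintro ⟨⟨j, hj⟩, w, hw, hc⟩ ⟨⟨j', hj'⟩, w', hw', hc'⟩ h
    have h' : headV w = headV w' := h
    have e : j = j' := find_unique (headV_top hc) (headV_ne hc hw) (by rw [h']; exact headV_top hc')
      (by rw [h']; exact headV_ne hc' hw')
    subst e
    have e2 : w = w' := funext fun i => by
      have h3 := headV_pow hc i
      have h4 := headV_pow hc' i
      rw [h3, h4, h']
    subst e2
    rfl
  · intro v
    classical
    have hex : ∃ n, (T ^ n) v = 0 := by
      obtain ⟨n, hn⟩ := hT
      exact ⟨n, by rw [hn]; rfl⟩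
    have h1 := Nat.find_spec hex
    have h2 : ∀ n < Nat.find hex, (T ^ n) v ≠ 0 := fun n hn => Nat.find_min hex hn
    generalize Nat.find hex = j at h1 h2
    have hli := li_of_pow h2 h1
    have hle : j ≤ finrank F V := by
      have := hli.fintype_card_le_finrank
      simpa using this
    refine ⟨⟨⟨j, by omega⟩, fun i => (T ^ (i : ℕ)) v, hli, ?_⟩, ?_⟩
    · intro i
      show T ((T ^ (i : ℕ)) v) = _
      rw [← Module.End.mul_apply, ← pow_succ']
      split_ifs with h
      · rfl
      · have h' : ¬ (i : ℕ) + 1 < j := h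
        have hi : (i : ℕ) < j := i.2
        have : (i : ℕ) + 1 = j := by omega
        rw [this, h1]
    · show headV (fun i : Fin j => (T ^ (i : ℕ)) v) = v
      by_cases h0 : 0 < j
      · rw [headV, dif_pos h0]
        rfl
      · rw [headV, dif_neg h0]
        have : j = 0 := by omega
        subst this
        exact h1.symm

end chain

section count

variable {F : Type*} [Field F] [Finite F]

instance finite_end {V : Type*} [AddCommGroup V] [Module F V] [Module.Finite F V] : Finite (End F V) :=
  Module.finite_of_finite F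

theorem card_nil_aux {V : Type*} [AddCommGroup V] [Module F V] [Module.Finite F V] :
    Nat.card {T : End F V // IsNilpotent T} * Nat.card V =
      ∑ j : Fin (finrank F V + 1), Nat.card (Σ w : {w : Fin j → V // LinearIndependent F w},
        {T : End F V // IsNilpotent T ∧ Chain T w.1}) := by
  classical
  have hV : Finite V := Module.finite_of_finite F
  let _ := Fintype.ofFinite {T : End F V // IsNilpotent T}
  have hfin : ∀ j : Fin (finrank F V + 1), Finite (Σ w : {w : Fin j → V // LinearIndependent F w},
        {T : End F V // IsNilpotent T ∧ Chain T w.1}) := fun j => inferInstance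
  rw [← Nat.card_sigma]
  have h1 : ∀ T : {T : End F V // IsNilpotent T}, Nat.card V = Nat.card (Σ j : Fin (finrank F V + 1),
      {w : Fin j → V // LinearIndependent F w ∧ Chain T.1 w}) := fun T =>
    (Nat.card_eq_of_bijective _ (headV_bijective T.2)).symm
  have h2 : Nat.card {T : End F V // IsNilpotent T} * Nat.card V = Nat.card (Σ T : {T : End F V // IsNilpotent T},
      Σ j : Fin (finrank F V + 1), {w : Fin j → V // LinearIndependent F w ∧ Chain T.1 w}) := by
    rw [Nat.card_sigma, Finset.sum_congr rfl fun T _ => (h1 T).symm, Finset.sum_const, Finset.card_univ,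
      Nat.card_eq_fintype_card, smul_eq_mul]
  rw [h2]
  refine Nat.card_congr
    { toFun := fun x => ⟨x.2.1, ⟨x.2.2.1, x.2.2.2.1⟩, ⟨x.1.1, x.1.2, x.2.2.2.2⟩⟩
      invFun := fun x => ⟨⟨x.2.2.1, x.2.2.2.1⟩, x.1, ⟨x.2.1.1, x.2.1.2, x.2.2.2.2⟩⟩
      left_inv := fun _ => rfl
      right_inv := fun _ => rfl }

omit [Finite F] in
/-- number of nilpotent extensions -/
theorem card_ext_num {M V : Type*} [AddCommGroup M] [Module F M] [AddCommGroup V] [Module F V] [Module.Finite F V]
    (φ : M →ₗ[F] V)
    (hnil : ∀ C : Submodule F V, finrank F (LinearMap.range φ) + finrank F C = finrank F V →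
      Nat.card {D : End F C // IsNilpotent D} = Nat.card F ^ (finrank F C * (finrank F C - 1)))
    {S : End F M} (hS : IsNilpotent S) (hK : ∀ x, φ x = 0 → φ (S x) = 0) :
    Nat.card {T : End F V // IsNilpotent T ∧ ∀ x, T (φ x) = φ (S x)} =
      Nat.card F ^ ((finrank F V - finrank F (LinearMap.range φ)) * (finrank F V - 1)) := by
  obtain ⟨C, hC⟩ := Submodule.exists_isCompl (LinearMap.range φ)
  have h1 := Submodule.finrank_add_eq_of_isCompl hC
  rw [card_ext φ hS hK C hC, hnil C h1, Module.natCard_eq_pow_finrank (K := F), Module.finrank_linearMap, ← pow_add]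
  congr 1
  have h2 : finrank F V - finrank F (LinearMap.range φ) = finrank F C := by omega
  rw [h2, ← mul_add]
  rcases Nat.eq_zero_or_pos (finrank F C) with h0 | h0
  · rw [h0, zero_mul, zero_mul]
  · congr 1
    omega

theorem card_li {V : Type*} [AddCommGroup V] [Module F V] [Module.Finite F V] (j : ℕ) :
    (Nat.card {w : Fin j → V // LinearIndependent F w} : ℤ) =
      ∏ i ∈ Finset.range j, ((Nat.card F : ℤ) ^ finrank F V - (Nat.card F : ℤ) ^ i) := by
  have hV : Finite V := Module.finite_of_finite F
  let _ := Fintype.ofFinite F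
  rcases le_or_gt j (finrank F V) with h | h
  · rw [card_linearIndependent h, Nat.cast_prod, Finset.prod_range]
    refine Finset.prod_congr rfl fun i _ => ?_
    rw [Nat.cast_sub (Nat.pow_le_pow_right Fintype.card_pos (by omega)), Nat.card_eq_fintype_card]
    push_cast
    rfl
  · rw [Finset.prod_eq_zero (Finset.mem_range.2 h) (sub_self _)]
    have : IsEmpty {w : Fin j → V // LinearIndependent F w} := ⟨fun w => by
      have := w.2.fintype_card_le_finrank
      rw [Fintype.card_fin] at this
      omega⟩
    rw [Nat.card_of_isEmpty]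
    rfl

theorem card_nil (N : ℕ) : ∀ (V : Type*) [AddCommGroup V] [Module F V] [Module.Finite F V], finrank F V = N →
    Nat.card {T : End F V // IsNilpotent T} = Nat.card F ^ (N * (N - 1)) := by
  induction N using Nat.strong_induction_on with
  | _ N ih =>
  intro V _ _ _ hN
  subst hN
  classical
  have hV : Finite V := Module.finite_of_finite F
  have hq1 : 1 < Nat.card F := Finite.one_lt_card
  rcases Nat.eq_zero_or_pos (finrank F V) with h0 | h0
  · have hs : Subsingleton V := Module.finrank_zero_iff.1 h0
    rw [h0, zero_mul, pow_zero, Nat.card_eq_one_iff_unique]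
    refine ⟨⟨fun a b => Subtype.ext (LinearMap.ext fun x => Subsingleton.elim _ _)⟩, ⟨⟨0, IsNilpotent.zero⟩⟩⟩
  · have h1 := card_nil_aux (F := F) (V := V)
    rw [Fin.sum_univ_succ] at h1
    have h2 : Nat.card (Σ w : {w : Fin ((0 : Fin (finrank F V + 1)) : ℕ) → V // LinearIndependent F w},
        {T : End F V // IsNilpotent T ∧ Chain T w.1}) = Nat.card {T : End F V // IsNilpotent T} := by
      refine Nat.card_congr
        { toFun := fun x => ⟨x.2.1, x.2.2.1⟩
          invFun := fun T => ⟨⟨fun i => absurd i.2 (Nat.not_lt_zero _), ?_⟩, ⟨T.1, T.2, fun i => absurd i.2 (Nat.not_lt_zero _)⟩⟩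
          left_inv := fun x => ?_
          right_inv := fun _ => rfl }
      · have : IsEmpty (Fin ((0 : Fin (finrank F V + 1)) : ℕ)) := Fin.isEmpty
        exact linearIndependent_empty_type
      · obtain ⟨⟨w, hw⟩, T, hT, hc⟩ := x
        have e : w = fun i => absurd i.2 (Nat.not_lt_zero _) := funext fun i => absurd i.2 (Nat.not_lt_zero _)
        subst e
        rfl
    have h3 : ∀ j : Fin (finrank F V), (Nat.card (Σ w : {w : Fin ((j.succ : Fin (finrank F V + 1)) : ℕ) → V //
        LinearIndependent F w}, {T : End F V // IsNilpotent T ∧ Chain T w.1}) : ℤ) =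
          (∏ i ∈ Finset.range (j + 1), ((Nat.card F : ℤ) ^ finrank F V - (Nat.card F : ℤ) ^ i)) *
            (Nat.card F : ℤ) ^ ((finrank F V - (j + 1)) * (finrank F V - 1)) := by
      intro j
      let _ := Fintype.ofFinite {w : Fin ((j.succ : Fin (finrank F V + 1)) : ℕ) → V // LinearIndependent F w}
      rw [Nat.card_sigma]
      have h4 : ∀ w : {w : Fin ((j.succ : Fin (finrank F V + 1)) : ℕ) → V // LinearIndependent F w},
          Nat.card {T : End F V // IsNilpotent T ∧ Chain T w.1} = Nat.card F ^ ((finrank F V - (j + 1)) * (finrank F V - 1)) := by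
        intro w
        have hr : finrank F (LinearMap.range (Fintype.linearCombination F w.1)) = j + 1 := by
          rw [Fintype.range_linearCombination, finrank_span_eq_card w.2, Fintype.card_fin]
          rfl
        have h5 := card_ext_num (Fintype.linearCombination F w.1) (fun C hC => ih _ (by omega) C rfl)
          (shift_nilp F _) (fun x hx => by
            have : x = 0 := by
              have hinj := Fintype.linearIndependent_iff.1 w.2 x (by
                rwa [Fintype.linearCombination_apply] at hx)
              exact funext hinj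
            rw [this, map_zero, map_zero])
        rw [hr] at h5
        rw [← h5]
        exact Nat.card_congr (Equiv.subtypeEquivRight fun T => and_congr Iff.rfl chain_iff)
      rw [Finset.sum_congr rfl fun w _ => h4 w, Finset.sum_const, smul_eq_mul, Finset.card_univ,
        ← Nat.card_eq_fintype_card]
      push_cast
      rw [card_li]
      rfl
    have h6 := congrArg (Nat.cast : ℕ → ℤ) h1
    rw [h2] at h6
    push_cast at h6
    rw [Finset.sum_congr rfl fun j _ => h3 j, ← Finset.sum_range (fun j => (∏ i ∈ Finset.range (j + 1),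
      ((Nat.card F : ℤ) ^ finrank F V - (Nat.card F : ℤ) ^ i)) * (Nat.card F : ℤ) ^ ((finrank F V - (j + 1)) *
        (finrank F V - 1))), tel_top (by positivity), Module.natCard_eq_pow_finrank (K := F) (V := V)] at h6
    push_cast at h6
    have h7 : (Nat.card F : ℤ) ^ finrank F V - 1 ≠ 0 := by
      have : (1 : ℤ) < (Nat.card F : ℤ) ^ finrank F V := one_lt_pow₀ (by exact_mod_cast hq1) (by omega)
      omega
    have h8 : (Nat.card {T : End F V // IsNilpotent T} : ℤ) =
        (Nat.card F : ℤ) ^ (finrank F V * (finrank F V - 1)) := by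
      apply mul_left_cancel₀ h7
      linear_combination h6
    exact_mod_cast h8

end count

end Cfsg.Agent.H119.GU
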